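import Cfsg.Agent.Lib.Comp.Fast

set_option maxRecDepth 100000
set_option Elab.async false

namespace Cfsg.Lib.Comp.O7x

universe u

def iv : ℕ → ℕ := (fun x => look (nat_lit 0xffef7cefae78df6d74cf2c70beeb6caeaa689e69648e28607de75c6da6585d65544d24503ce34c2ca2481c6143101080) 6 x)

noncomputable def R : List (List ℕ × ℕ) := (apd [([1],2),
 ([3],2),
 ([1,3],2),
 ([1,4],2),
 ([5],1),
 ([1,5],1),
 ([3,5,4,5],0),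
 ([6],1),
 ([1,6],1),
 ([5,6],1),
 ([3,6],2),
 ([7],1),
 ([1,7],1),
 ([3,7],1),
 ([5,7],1),
 ([6,7],1),
 ([8],1),
 ([3,8],1),
 ([5,8],1),
 ([6,8],1),
 ([7,8],1),
 ([1,8],2),
 ([1,3,6,4,1,7,8,1,4,6,3,2,8,1,3,6,4,2,8],0),
 ([9],1),
 ([3,9],1),
 ([5,9],1),
 ([6,9],1),
 ([8,9],1),
 ([7,9],2),
 ([1,7,8,9,7,2,8,1,9,2,8],0),
 ([1,9],5),
 ([1,3,2,4,9,1,9,1,4,2,9,4,2,9],0),
 ([10],1),
 ([3,10],1),
 ([5,10],1),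
 ([6,10],1),
 ([7,10],1),
 ([8,10],1),
 ([1,10,2,10],0),
 ([9,10],3)]
 [([7,8,10,9,10,7,9,10,7,9],0),
 ([1,10],5),
 ([1,5,9,10,2,7],4),
 ([1,2],0),
 ([3,4],0)])

def L : List ℕ := [1,2,3,4,5,6,7,8,9,10]

end Cfsg.Lib.Comp.O7x
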