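import Cfsg.Agent.Lib.Comp.O7x.Main
import Cfsg.Agent.Lib.MatB.Fam
import Cfsg.Agent.S0292

set_option maxRecDepth 100000
set_option Elab.async false

namespace Cfsg.Lib.Comp.O7x

open Cfsg.Lib.MatB Matrix

universe u

def mT0 : List ℕ := [nat_lit 0x1, nat_lit 0x80, nat_lit 0x4000, nat_lit 0x200000, nat_lit 0x10000000, nat_lit 0x800000000, nat_lit 0x40000000000]
def mT1 : List ℕ := [nat_lit 0x1, nat_lit 0x820208100, nat_lit 0x20008000, nat_lit 0x200000, nat_lit 0x4000, nat_lit 0x408100, nat_lit 0x40020004000]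
def mT2 : List ℕ := [nat_lit 0x1, nat_lit 0x1020400000, nat_lit 0x10000000, nat_lit 0x200000, nat_lit 0x20008000, nat_lit 0x1020208080, nat_lit 0x40010008000]
def mT3 : List ℕ := [nat_lit 0x1010208102, nat_lit 0x820208100, nat_lit 0x1010408100, nat_lit 0x200000, nat_lit 0x1020404100, nat_lit 0x10000102, nat_lit 0x40820000081]
def mT4 : List ℕ := [nat_lit 0x404002, nat_lit 0x820404102, nat_lit 0x1010200101, nat_lit 0x200000, nat_lit 0x1020208101, nat_lit 0x1020000081, nat_lit 0x41010000102]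
def mT5 : List ℕ := [nat_lit 0x10008001, nat_lit 0x1020400082, nat_lit 0x20208000, nat_lit 0x400000, nat_lit 0x10200000, nat_lit 0x1000404001, nat_lit 0x80820208080]
def mT6 : List ℕ := [nat_lit 0x20004002, nat_lit 0x810200101, nat_lit 0x1010408100, nat_lit 0x200000, nat_lit 0x1020404100, nat_lit 0x1000204082, nat_lit 0x41010404100]
def mT7 : List ℕ := [nat_lit 0x2, nat_lit 0x1010404080, nat_lit 0x820004080, nat_lit 0x200000, nat_lit 0x810008080, nat_lit 0x810204100, nat_lit 0x40020004000]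
def mT8 : List ℕ := [nat_lit 0x810200002, nat_lit 0x10008102, nat_lit 0x800208102, nat_lit 0x200000, nat_lit 0x1020404100, nat_lit 0x1020208080, nat_lit 0x40800204102]
def mT9 : List ℕ := [nat_lit 0x200002, nat_lit 0x1010404080, nat_lit 0x820404080, nat_lit 0x200000, nat_lit 0x810008080, nat_lit 0x810004100, nat_lit 0x41020400002]
def mT10 : List ℕ := [nat_lit 0x10008001, nat_lit 0x10008102, nat_lit 0x40000004000, nat_lit 0x40800404080, nat_lit 0x40020008000, nat_lit 0x40820004101, nat_lit 0x80000000000]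

def mtabs : List (List ℕ) := [mT0, mT1, mT2, mT3, mT4, mT5, mT6, mT7, mT8, mT9, mT10]

noncomputable def mtab : ℕ → List ℕ := nth mT0 mtabs

noncomputable def mrd : ℕ → ℕ := red 7 3 7

theorem mctx : Ctx 7 3 7 7 (0 : (ZMod 3)) (eOdd 3) mrd :=
  ⟨by decide +kernel, by decide +kernel, by decide +kernel, Or.inr ⟨rfl, rfl⟩, by decide +kernel, by norm_num, by norm_num,
    fun _ => rfl⟩

theorem mok : ∀ x, TabOK 7 7 7 (0 : (ZMod 3)) mrd (mtab x) := tabOK_nth (by decide +kernel)

noncomputable abbrev mM (x : ℕ) : Matrix (Unit ⊕ (Fin 3 ⊕ Fin 3)) (Unit ⊕ (Fin 3 ⊕ Fin 3)) (ZMod 3) := tm 7 7 (0 : (ZMod 3)) (eOdd 3) (mtab x)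

noncomputable def mR : List (List ℕ × ℕ) := apd R (L.map fun x => ([x, iv x], 0))

theorem mside : SideOK iv R mR L := by decide +kernel

theorem mrel : relB 7 7 mrd mtab [0] mR = true := by decide +kernel

theorem minv : MatB.invB 7 7 mrd mtab (L.map fun x => (x, iv x)) = true := by decide +kernel

theorem malt : ∀ x ∈ L, IsAlt ((mM x)ᵀ * gOdd 3 (ZMod 3) * mM x - gOdd 3 (ZMod 3)) := by decide +kernel

theorem iso {F : Type u} [Field F] [Fintype F] (hF : Fintype.card F = 3) :
    Nonempty (cl (gp nets) L ≃* POmega F (quadFormOdd 3 F)) := by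
  obtain ⟨φ⟩ := hom3 hF
  have := simple
  have := nets_ok.finite L
  obtain ⟨f, hf⟩ := bridge_ex nets_iv nets_rel ord card mside φ φ.injective _ (gl_inj (isometryGroup F (quadFormOdd 3 F)))
    (M := mM) (fun x hx => isom_mem φ (quadFormOdd_eq φ 3) (malt x hx)
      (mctx.gl mok minv φ x (by simpa using hx))) (by decide +kernel) (mctx.rel mok mrel)
    (x := 1) (y := 3) (by decide) (by decide) (i := .inl ()) (j := .inr (.inl 1)) (by decide +kernel)
  refine iso_comm_quot (by rw [card]; norm_num) hf ?_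
  have h := Cfsg.Agent.S0292.result hF (by decide) 3 le_rfl
  rw [card]
  change Nat.card (POmega F (quadFormOdd 3 F)) = _
  norm_num [Finset.prod_range_succ] at h
  omega

end Cfsg.Lib.Comp.O7x
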