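import Cfsg.Agent.Lib.Comp.O7x.MuH0_0
import Cfsg.Agent.Lib.Comp.O7x.MuH0_1
import Cfsg.Agent.Lib.Comp.O7x.Mu0
import Cfsg.Agent.Lib.Comp.O7x.Main
import Cfsg.Agent.Lib.Comp.Cover

set_option maxRecDepth 100000
set_option Elab.async false

namespace Cfsg.Lib.Comp.O7x

universe u

theorem MuH0_1_ord : Ord.{u} iv MuH0_1_R [7] 2 :=
  (MuH0_1_idx.ord_base).of_cons (cons_of_subset (by decide +kernel))

theorem MuH0_0_ord : Ord.{u} iv MuH0_0_R [7,9] 6 :=
  (MuH0_0_idx.ord_step MuH0_1_ord).of_cons (cons_of_subset (by decide +kernel))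

noncomputable def MuH0_lb_n_7 : Net :=
 (Net.cons 1 (nat_lit 0x2)
 Net.nil)

noncomputable def MuH0_lb_n_9 : Net :=
 (Net.cons 1 (nat_lit 0x1)
 Net.nil)

noncomputable def MuH0_lb_n : List Net := [Net.nil,
 Net.nil,
 Net.nil,
 Net.nil,
 Net.nil,
 Net.nil,
 Net.nil,
 MuH0_lb_n_7,
 Net.nil,
 MuH0_lb_n_9]

theorem MuH0_lb_n_ok : NetsOK 3 MuH0_lb_n := netsOK_of (by decide +kernel)

theorem MuH0_lb : 6 ≤ Nat.card (cl (gp nets) [7,9]) :=
  lb_of_itwB (k := 2) (n := 3) nets_ok MuH0_lb_n_ok (by norm_num) (by norm_num) (tbA_pt nets_ok) (tbA_pt MuH0_lb_n_ok) (φ := look2 (nat_lit 0x370001800001) 20 64) (by decide +kernel) (by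
    rw [← cl_eq_of_slpB (k := 2) (D := []) MuH0_lb_n_ok (by norm_num) (by decide +kernel)]
    exact lb_of_chainB MuH0_lb_n_ok (C := [([7],[9,7],0,0,3),
 ([],[7],1,1,2)]) (by decide +kernel))

theorem Mu_mb : MB (cl (gp nets) L) 16380 6 :=
  mb_cyc (w := 36) (n := 45) (La := L) (ix := nth 0 [0,0,0,0,0,4,7,11,16,23,32]) (by norm_num) (by norm_num) (nets_iv.sval _) (nets_rel.sval fun r hr x hx => mem_cl (sub_of_allR (by decide +kernel) r hr x hx)) (by decide +kernel)
    (TStep.trans (TStep.trans (TStep.trans (TStep.trans (TStep.trans (TStep.trans (TStep.trans (TStep.trans (TStep.trans (TStep.trans (TStep.trans (TStep.trans (TStep.trans (TStep.trans (TStep.trans (TStep.trans (TStep.trans (TStep.trans (TStep.trans (TStep.trans (TStep.trans (TStep.repar (k' := 37) (by norm_num) (by norm_num) (by decide +kernel) (by decide +kernel) Mu1_b)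
    (TStep.enum0 (by norm_num) (by norm_num) Mu2_0 (Gs := Mu2G) (by decide +kernel)))
    (TStep.repar (k' := 36) (by norm_num) (by norm_num) (by decide +kernel) (by decide +kernel) Mu3_b))
    (TStep.enum0 (by norm_num) (by norm_num) Mu4_0 (Gs := Mu4G) (by decide +kernel)))
    (TStep.repar (k' := 35) (by norm_num) (by norm_num) (by decide +kernel) (by decide +kernel) Mu5_b))
    (TStep.enum0 (by norm_num) (by norm_num) Mu6_0 (Gs := Mu6G) (by decide +kernel)))
    (TStep.repar (k' := 32) (by norm_num) (by norm_num) (by decide +kernel) (by decide +kernel) Mu7_b))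
    (TStep.enum0 (by norm_num) (by norm_num) Mu8_0 (Gs := Mu8G) (by decide +kernel)))
    (TStep.repar (k' := 29) (by norm_num) (by norm_num) (by decide +kernel) (by decide +kernel) Mu9_b))
    (TStep.enum0 (by norm_num) (by norm_num) Mu10_0 (Gs := Mu10G) (by decide +kernel)))
    (TStep.repar (k' := 26) (by norm_num) (by norm_num) (by decide +kernel) (by decide +kernel) Mu11_b))
    (TStep.enum0 (by norm_num) (by norm_num) Mu12_0 (Gs := Mu12G) (by decide +kernel)))
    (TStep.repar (k' := 19) (by norm_num) (by norm_num) (by decide +kernel) (by decide +kernel) Mu13_b))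
    (TStep.enum0 (by norm_num) (by norm_num) Mu14_0 (Gs := Mu14G) (by decide +kernel)))
    (TStep.repar (k' := 12) (by norm_num) (by norm_num) (by decide +kernel) (by decide +kernel) Mu15_b))
    (TStep.enum0 (by norm_num) (by norm_num) Mu16_0 (Gs := Mu16G) (by decide +kernel)))
    (TStep.repar (k' := 3) (by norm_num) (by norm_num) (by decide +kernel) (by decide +kernel) Mu17_b))
    (TStep.enum (by norm_num) (by norm_num) Mu18_0 (I := [11,23,28]) (by decide +kernel) (by decide +kernel) MuH0_0_ord (c := 1) (lb_sval (fun _ hx => mem_cl (sub_of_subB (by decide +kernel) _ hx)) MuH0_lb (by norm_num)) (Gs := Mu18G) (by decide +kernel)))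
    (TStep.repar (k' := 2) (by norm_num) (by norm_num) (by decide +kernel) (by decide +kernel) Mu19_b))
    (TStep.enum (by norm_num) (by norm_num) Mu20_0 (I := [11,23,28]) (by decide +kernel) (by decide +kernel) MuH0_0_ord (c := 1) (lb_sval (fun _ hx => mem_cl (sub_of_subB (by decide +kernel) _ hx)) MuH0_lb (by norm_num)) (Gs := Mu20G) (by decide +kernel)))
    (TStep.repar (k' := 1) (by norm_num) (by norm_num) (by decide +kernel) (by decide +kernel) Mu21_b))
    (TStep.cons (by norm_num) (by norm_num) (c := (nat_lit 0x1)) (v := 6) (by decide +kernel) (by decide +kernel)))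
    (by norm_num) List.mem_cons_self (by norm_num)
    (TStep.repar (k' := 0) (by norm_num) (by norm_num) (by decide +kernel) (by decide +kernel) Mu23_b)
    (L := [1,2,3,4,5,6,7,8,9,10]) (I := [0,1,2,3,4,5,6,7,8,9,10,11,12,13,14,15,16,17,18,19,20,21,22,23,24,25,26,27,28,29,30,31,32,33,34,35,36,37,38,39,40,41,42,43,44]) (by decide +kernel) (by decide +kernel) ord card.ge (cl_sval_top _ _)

end Cfsg.Lib.Comp.O7x
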