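import Cfsg.Agent.Lib.Comp.O7x.Perm

set_option maxRecDepth 100000
set_option Elab.async false

namespace Cfsg.Lib.Comp.O7x

universe u

noncomputable def T0_R : List (List ℕ × ℕ) := (apd [([1],2),
 ([3],2),
 ([1,3],2),
 ([1,4],2),
 ([5],1),
 ([1,5],1),
 ([3,5,4,5],0),
 ([6],1),
 ([1,6],1),
 ([5,6],1),
 ([3,6],2),
 ([7],1),
 ([1,7],1),
 ([3,7],1),
 ([5,7],1),
 ([6,7],1),
 ([8],1),
 ([3,8],1),
 ([5,8],1),
 ([6,8],1),
 ([7,8],1),
 ([1,8],2),
 ([1,3,6,4,1,7,8,1,4,6,3,2,8,1,3,6,4,2,8],0),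
 ([9],1),
 ([3,9],1),
 ([5,9],1),
 ([6,9],1),
 ([8,9],1),
 ([7,9],2),
 ([1,7,8,9,7,2,8,1,9,2,8],0),
 ([1,9],5),
 ([1,3,2,4,9,1,9,1,4,2,9,4,2,9],0),
 ([10],1),
 ([3,10],1),
 ([5,10],1),
 ([6,10],1),
 ([7,10],1),
 ([8,10],1),
 ([1,10,2,10],0),
 ([9,10],3)]
 [([7,8,10,9,10,7,9,10,7,9],0),
 ([1,10],5),
 ([1,5,9,10,2,7],4),
 ([1,2],0),
 ([3,4],0)])

theorem nets_rel_T0 : Rels (gp nets) T0_R := nets_rel.mono (by decide +kernel)

theorem T0_fin : finB 384 nets [1,2,3,4,5,6,7,8,9,10] 364 (runH 384 nets (fun x p => ptInv (nth Net.nil nets x) p) iv T0_R [] ([1,2,3,4,5,6,7,8,9].map fun x => [x]) 0 []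
  (apd [1,5,9,13,17,21,25,29,33,28,44,48,52,64,92,96,104,128,132,136,140,144,148,152,156,160,172,176,0,4,12,32,44,48,52,60,96,100,104,108,116,132,136,140,148,152,172,176,8,12,20,24,28,32,36,40,44,52,56,60]
 (apd [68,76,80,96,100,104,108,132,136,140,152,172,176,0,4,8,12,16,20,24,28,32,40,48,52,56,60,64,68,80,84,96,100,104,108,128,132,136,140,144,148,152,172,176,0,4,8,12,16,20,24,28,32,48,52,56,68,72,76,80]
 (apd [84,100,104,136,140,148,152,176,16,20,28,16,124,8,12,20,24,32,96,116,132,144,152,160,172,176,4,12,24,40,60,96,104,112,132,176,4,8,12,24,40,52,56,84,96,100,104,116,172,176,12,32,64,80,96,100,108,116,140,172]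
 (apd [0,20,28,48,112,116,152,8,12,96,176,8,12,32,48,52,84,92,108,116,148,172,176,0,4,8,12,20,24,32,40,44,48,52,56,60,64,68,72,80,84,96,100,104,108,112,116,132,136,140,148,172,176,0,4,8,12,16,20,24]
 (apd [28,32,36,44,64,68,72,96,100,104,108,116,132,136,140,172,176,16,20,32,52,56,60,96,100,104,136,140,176,124,0,8,12,20,24,32,36,40,48,52,56,60,84,92,96,100,104,108,112,116,120,132,136,140,144,148,152,156,164,172]
 (apd [176,0,4,8,12,20,24,28,32,36,40,44,48,52,60,64,68,72,76,80,84,92,96,112,116,120,128,132,140,152,172,176,0,8,12,20,32,48,80,112,116,152,168,92,96,100,104,112,116,120,132,136,140,144,148,152,156,160,48,72]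
 [80,92,152,124,0,8,12,20,24,32,36,48,68,96,116,120,152,176,4,8,12,32,40,52,60,68,76,96,104,116,132,140,152,176,0,84,116]))))))
  (defsH 384 nets (ones 4224) [10,9,10,1,2,3,4,6,9,1,2,3,4,7,9,10,1,2,3,4,6,7,8,9,1,2,3,6] (Nat.shiftLeft 1 0) 0)) = true := by decide +kernel

theorem T0_idx : Idx.{u} iv (T0_R ++ []) ([1,2,3,4,5,6,7,8,9].map fun x => [x]) [1,2,3,4,5,6,7,8,9,10] 364 :=
  Reach.idx nets_ok (reach_runH nets_ok (fun x p _ => ptInv_gp nets_ok x p) nets_rel_T0 (reach_defsH nets_ok _ _ _ _ _ _) _ _) T0_fin (by norm_num)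

end Cfsg.Lib.Comp.O7x
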