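import Cfsg.Agent.Lib.Comp.O7x.Base

set_option maxRecDepth 100000
set_option Elab.async false

namespace Cfsg.Lib.Comp.O7x

universe u

noncomputable def T2_R : List (List ℕ × ℕ) := [([1],2),
 ([3],2),
 ([1,3],2),
 ([1,4],2),
 ([5],1),
 ([1,5],1),
 ([3,5,4,5],0),
 ([6],1),
 ([1,6],1),
 ([5,6],1),
 ([3,6],2),
 ([7],1),
 ([1,7],1),
 ([3,7],1),
 ([5,7],1),
 ([6,7],1),
 ([8],1),
 ([3,8],1),
 ([5,8],1),
 ([6,8],1),
 ([7,8],1),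
 ([1,8],2),
 ([1,3,6,4,1,7,8,1,4,6,3,2,8,1,3,6,4,2,8],0),
 ([1,2],0),
 ([3,4],0)]

noncomputable def T2_n_1 : Net :=
 (Net.cons 20 (nat_lit 0x10290)
 (Net.cons 10 (nat_lit 0x3a00160)
 (Net.cons 5 (nat_lit 0x700a00010)
 (Net.cons 1 (nat_lit 0x4a008004)
 (Net.cons 1 (nat_lit 0x5004a42942)
 (Net.cons 1 (nat_lit 0x2802400080)
 (Net.cons 1 (nat_lit 0x200140)
 (Net.cons 5 (nat_lit 0x601005410)
 (Net.cons 10 (nat_lit 0xdb00370)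
 (Net.cons 20 (nat_lit 0x4180)
 Net.nil))))))))))

noncomputable def T2_n_3 : Net :=
 (Net.cons 20 (nat_lit 0xc0d0)
 (Net.cons 10 (nat_lit 0x34000050)
 (Net.cons 5 (nat_lit 0xc06008)
 (Net.cons 1 (nat_lit 0x48408004)
 (Net.cons 1 (nat_lit 0x5284a12848)
 (Net.cons 1 (nat_lit 0x14a4290a4)
 (Net.cons 1 (nat_lit 0x280a52140)
 (Net.cons 1 (nat_lit 0x40100000)
 (Net.cons 5 (nat_lit 0x20050600c)
 (Net.cons 10 (nat_lit 0x39500028)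
 (Net.cons 20 (nat_lit 0xc0a8)
 Net.nil)))))))))))

noncomputable def T2_n_5 : Net :=
 (Net.cons 10 (nat_lit 0x3f0)
 (Net.cons 5 (nat_lit 0x100005812)
 (Net.cons 1 (nat_lit 0x9000200a4)
 (Net.cons 1 (nat_lit 0x129085094a)
 (Net.cons 1 (nat_lit 0x9400294a4)
 (Net.cons 1 (nat_lit 0x28001280a)
 (Net.cons 1 (nat_lit 0x100001000)
 (Net.cons 5 (nat_lit 0x101f02412)
 (Net.cons 10 (nat_lit 0x3f0)
 Net.nil)))))))))

noncomputable def T2_n_6 : Net :=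
 (Net.cons 20 (nat_lit 0xf4418)
 (Net.cons 10 (nat_lit 0x3fa002f0)
 (Net.cons 5 (nat_lit 0x600a02816)
 (Net.cons 1 (nat_lit 0x2842028020)
 (Net.cons 1 (nat_lit 0x29420290a)
 (Net.cons 1 (nat_lit 0xa500080)
 (Net.cons 1 (nat_lit 0x14800040)
 (Net.cons 1 (nat_lit 0x20)
 (Net.cons 5 (nat_lit 0x101d0681e)
 (Net.cons 10 (nat_lit 0x27d001f0)
 (Net.cons 20 (nat_lit 0xf8704)
 Net.nil)))))))))))

noncomputable def T2_n_7 : Net :=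
 (Net.cons 10 (nat_lit 0x200)
 (Net.cons 5 (nat_lit 0x400004010)
 (Net.cons 1 (nat_lit 0x8021000a4)
 (Net.cons 1 (nat_lit 0x5090802900)
 (Net.cons 1 (nat_lit 0x2800000080)
 (Net.cons 1 (nat_lit 0x5000000000)
 (Net.cons 1 (nat_lit 0x800000000)
 (Net.cons 5 (nat_lit 0x400004010)
 (Net.cons 10 (nat_lit 0x200)
 Net.nil)))))))))

noncomputable def T2_n_8 : Net :=
 (Net.cons 20 (nat_lit 0x38028)
 (Net.cons 10 (nat_lit 0x278002d0)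
 (Net.cons 5 (nat_lit 0x80081a)
 (Net.cons 1 (nat_lit 0x84a420424)
 (Net.cons 1 (nat_lit 0x84852942)
 (Net.cons 1 (nat_lit 0x10a409081)
 (Net.cons 1 (nat_lit 0x200100)
 (Net.cons 1 (nat_lit 0x100000)
 (Net.cons 5 (nat_lit 0x400107415)
 (Net.cons 10 (nat_lit 0x2d7002f0)
 (Net.cons 20 (nat_lit 0x34144)
 Net.nil)))))))))))

noncomputable def T2_n : List Net := [Net.nil,
 T2_n_1,
 Net.rev T2_n_1,
 T2_n_3,
 Net.rev T2_n_3,
 T2_n_5,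
 T2_n_6,
 T2_n_7,
 T2_n_8]

theorem T2_n_ok : NetsOK 40 T2_n := netsOK_of (by decide +kernel)

theorem T2_n_rel : Rels (gp T2_n) T2_R := rels_of_relsB (k := 6) T2_n_ok (by norm_num) (by decide +kernel)

theorem T2_fin : finB 40 T2_n [1,2,3,4,5,6,7,8] 40 (runH 40 T2_n (fun x p => ptInv (nth Net.nil T2_n x) p) iv T2_R [] ([1,2,3,4,5,6,7].map fun x => [x]) 0 []
  (apd [1,5,9,13,17,21,25,28,64,68,72,76,80,92,96,0,4,8,12,20,24,32,36,40,48,52,60,68,84,92,96,0,4,8,12,16,20,24,28,32,40,44,48,52,56,60,64,68,72,76,80,84,92,96,0,4,8,12,20,24]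
 [28,32,44,48,68,92,96,0,4,12,16,28,32,44,48,92,88,0,8,12,20,24,32,36,48,92,4,8,12,32,40,52,60,68,76,92,96])
  (defsH 40 T2_n (ones 440) [8,1,2,3,4,6,1,3,4,8,1,2,3,6] (Nat.shiftLeft 1 0) 0)) = true := by decide +kernel

theorem T2_idx : Idx.{u} iv (T2_R ++ []) ([1,2,3,4,5,6,7].map fun x => [x]) [1,2,3,4,5,6,7,8] 40 :=
  Reach.idx T2_n_ok (reach_runH T2_n_ok (fun x p _ => ptInv_gp T2_n_ok x p) T2_n_rel (reach_defsH T2_n_ok _ _ _ _ _ _) _ _) T2_fin (by norm_num)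

end Cfsg.Lib.Comp.O7x
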