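import Cfsg.Agent.Lib.Comp.O7x.Base

set_option maxRecDepth 100000
set_option Elab.async false

namespace Cfsg.Lib.Comp.O7x

universe u

noncomputable def T3_R : List (List ℕ × ℕ) := [([1],2),
 ([3],2),
 ([1,3],2),
 ([1,4],2),
 ([5],1),
 ([1,5],1),
 ([3,5,4,5],0),
 ([6],1),
 ([1,6],1),
 ([5,6],1),
 ([3,6],2),
 ([7],1),
 ([1,7],1),
 ([3,7],1),
 ([5,7],1),
 ([6,7],1),
 ([1,2],0),
 ([3,4],0)]

noncomputable def T3_n_7 : Net :=
 (Net.cons 1 (nat_lit 0x1)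
 Net.nil)

noncomputable def T3_n : List Net := [Net.nil,
 Net.nil,
 Net.nil,
 Net.nil,
 Net.nil,
 Net.nil,
 Net.nil,
 T3_n_7]

theorem T3_n_ok : NetsOK 2 T3_n := netsOK_of (by decide +kernel)

theorem T3_n_rel : Rels (gp T3_n) T3_R := rels_of_relsB (k := 1) T3_n_ok (by norm_num) (by decide +kernel)

theorem T3_fin : finB 2 T3_n [1,2,3,4,5,6,7] 2 (runH 2 T3_n (fun x p => ptInv (nth Net.nil T3_n x) p) iv T3_R [] ([1,2,3,4,5,6].map fun x => [x]) 0 []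
  [1,5,9,13,17,21,44,48,52,56,60,64,68]
  (defsH 2 T3_n (ones 22) [7] (Nat.shiftLeft 1 0) 0)) = true := by decide +kernel

theorem T3_idx : Idx.{u} iv (T3_R ++ []) ([1,2,3,4,5,6].map fun x => [x]) [1,2,3,4,5,6,7] 2 :=
  Reach.idx T3_n_ok (reach_runH T3_n_ok (fun x p _ => ptInv_gp T3_n_ok x p) T3_n_rel (reach_defsH T3_n_ok _ _ _ _ _ _) _ _) T3_fin (by norm_num)

end Cfsg.Lib.Comp.O7x
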