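import Cfsg.Agent.Lib.Comp.O7x.Base

set_option maxRecDepth 100000
set_option Elab.async false

namespace Cfsg.Lib.Comp.O7x

universe u

noncomputable def T6_R : List (List ℕ × ℕ) := [([1],2),
 ([3],2),
 ([1,3],2),
 ([1,4],2),
 ([1,2],0),
 ([3,4],0)]

noncomputable def T6_n_1 : Net :=
 (Net.cons 5 (nat_lit 0x4)
 (Net.cons 1 (nat_lit 0x4a)
 (Net.cons 1 (nat_lit 0x24)
 (Net.cons 1 (nat_lit 0x2)
 (Net.cons 5 (nat_lit 0x4)
 Net.nil)))))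

noncomputable def T6_n_3 : Net :=
 (Net.cons 5 (nat_lit 0xc)
 (Net.cons 1 (nat_lit 0x20)
 (Net.cons 1 (nat_lit 0x48)
 (Net.cons 1 (nat_lit 0xa4)
 (Net.cons 1 (nat_lit 0x42)
 (Net.cons 1 (nat_lit 0x1)
 (Net.cons 5 (nat_lit 0x1)
 Net.nil)))))))

noncomputable def T6_n : List Net := [Net.nil,
 T6_n_1,
 Net.rev T6_n_1,
 T6_n_3,
 Net.rev T6_n_3]

theorem T6_n_ok : NetsOK 10 T6_n := netsOK_of (by decide +kernel)

theorem T6_n_rel : Rels (gp T6_n) T6_R := rels_of_relsB (k := 4) T6_n_ok (by norm_num) (by decide +kernel)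

theorem T6_fin : finB 10 T6_n [1,2,3,4] 9 (runH 10 T6_n (fun x p => ptInv (nth Net.nil T6_n x) p) iv T6_R [] ([1,2].map fun x => [x]) 0 []
  [1,5,16,20,0,4,8,12,16,20,4,8,12,16]
  (defsH 10 T6_n (ones 110) [3,4,1,2,3] (Nat.shiftLeft 1 0) 0)) = true := by decide +kernel

theorem T6_idx : Idx.{u} iv (T6_R ++ []) ([1,2].map fun x => [x]) [1,2,3,4] 9 :=
  Reach.idx T6_n_ok (reach_runH T6_n_ok (fun x p _ => ptInv_gp T6_n_ok x p) T6_n_rel (reach_defsH T6_n_ok _ _ _ _ _ _) _ _) T6_fin (by norm_num)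

end Cfsg.Lib.Comp.O7x
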